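import Groth.Agent.FlatMor12.IdealModGen
import Groth.Agent.AmpleLib.Tensor
import Groth.Agent.AmpleLib.Power
import Groth.Agent.FSchLib.IdealSheaf

/-!
# Sections vanishing on an effective Cartier divisor as sections twisted by its ideal
-/

set_option autoImplicit false
set_option linter.unusedSectionVars false
set_option backward.isDefEq.respectTransparency.types false

universe u

open AlgebraicGeometry CategoryTheory CategoryTheory.Limits TopologicalSpace Opposite
open Groth.Agent.Coherent Groth.Agent.PicLib Groth.Agent.AmpleLib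

namespace Groth.Agent.FlatMorYMod

variable {X : Scheme.{u}} (E : X.IdealSheafData) {M : X.Modules}

theorem isGen_of_eq {L : X.Modules} {U : X.Opens} {s t : Γ(L, U)} (h : s = t) (hs : IsGen L U s) :
    IsGen L U t := h ▸ hs

/-- A section of an invertible module whose coordinates lie in the ideal of an effective Cartier divisor
gives a section of the twist by that ideal, generating wherever the section does. -/
theorem exists_idealSection (hE : BlowUp.IsEffCartierIdeal E) (hM : PicF.IsInvertible M) (s : Γ(M, ⊤))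
    (hs : ∀ x : X, ∃ (W : X.affineOpens) (g : Γ(M, W.1)) (c : Γ(X, W.1)), x ∈ W.1 ∧ IsGen M W.1 g ∧
      c ∈ E.ideal W ∧ resM M le_top s = c • g) :
    ∃ a : Γ(CohB1.tensorMod (ClSub.idealMod E) M, ⊤), glocus M s ≤ glocus _ a := by
  classical
  have := mono_idealModι E
  have hI := FlatMor12.IdealModGen.isInvertible_idealMod E hE
  let T := CohB1.tensorMod (ClSub.idealMod E) M
  let Φ : T ⟶ M := tensorMap (ClSub.idealModι E) (𝟙 M) ≫ (unitTensorIso M).hom
  have hΦt : ∀ {U : X.Opens} (k : Γ(ClSub.idealMod E, U)) (g : Γ(M, U)),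
      Φ.app U (tmul k g) = (show Γ(X, U) from (ClSub.idealModι E).app U k) • g := fun {U} k g => by
    show (unitTensorIso M).hom.app U ((tensorMap (ClSub.idealModι E) (𝟙 M)).app U (tmul k g)) = _
    rw [tensorMap_tmul]
    exact Bilin.desc_tmul _ U _ _
  have hinj : ∀ U : X.Opens, Function.Injective (Φ.app U) := fun U x y hxy => by
    refine sec_ext T x y fun z hz => ?_
    obtain ⟨U₁, hz₁, k, hk⟩ := exists_isGen hI z
    obtain ⟨U₂, hz₂, g, hg⟩ := exists_isGen hM z
    let V := U ⊓ (U₁ ⊓ U₂)
    refine ⟨V, inf_le_left, ⟨hz, hz₁, hz₂⟩, ?_⟩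
    have hk' := hk.restrict (inf_le_right.trans inf_le_left : V ≤ U₁)
    have hg' := hg.restrict (inf_le_right.trans inf_le_right : V ≤ U₂)
    have hT := isGen_tmul hk' hg'
    obtain ⟨a, ha⟩ := (hT V le_rfl).2 (resM T inf_le_left x)
    obtain ⟨b, hb⟩ := (hT V le_rfl).2 (resM T inf_le_left y)
    simp only [resM_self] at ha hb
    rw [← ha, ← hb]
    have h1 : Φ.app V (resM T inf_le_left x) = Φ.app V (resM T inf_le_left y) := by
      rw [app_resM, app_resM, hxy]
    rw [← ha, ← hb, Scheme.Modules.Hom.app_smul, Scheme.Modules.Hom.app_smul, hΦt, ← mul_smul, ← mul_smul] at h1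
    have h2 := (hg' V le_rfl).1 (show (a * _) • resM M le_rfl _ = (b * _) • resM M le_rfl _ by
      rw [resM_self]; exact h1)
    have h3 : (a : Γ(X, V)) • resM _ (inf_le_right.trans inf_le_left : V ≤ U₁) k =
        b • resM _ (inf_le_right.trans inf_le_left : V ≤ U₁) k := by
      refine app_injective_of_mono (ClSub.idealModι E) V ?_
      rw [Scheme.Modules.Hom.app_smul, Scheme.Modules.Hom.app_smul]
      exact h2
    have h4 := (hk' V le_rfl).1 (show a • resM _ le_rfl _ = b • resM _ le_rfl _ by rw [resM_self]; exact h3)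
    rw [h4]
  have hloc : ∀ x : X, ∃ (W : X.affineOpens) (t : Γ(T, W.1)), x ∈ W.1 ∧ Φ.app W.1 t = resM M le_top s ∧
      (glocus M s ⊓ W.1 ≤ W.1 → IsGen T (glocus M s ⊓ W.1) (resM T inf_le_right t)) := fun x => by
    obtain ⟨W, g, c, hx, hg, hc, hsc⟩ := hs x
    obtain ⟨k, hk⟩ := (mem_range_idealModι E W.1 c).2 (RingHom.mem_ker.1 ((E.ker_subschemeι_app W).symm ▸ hc))
    refine ⟨W, tmul k g, hx, ?_, fun hle => ?_⟩
    · rw [hΦt, hsc]
      exact congrArg (fun a : Γ(X, W.1) => a • g) hk
    · let V := glocus M s ⊓ W.1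
      have hg' := hg.restrict hle
      have hsg : IsGen M V (res hle c • resM M hle g) := by
        refine isGen_of_eq ?_ (((le_glocus_iff s _).1 le_rfl).restrict (inf_le_left : V ≤ glocus M s))
        rw [resM_resM, ← resM_smul, ← hsc, resM_resM]
      have hu : IsUnit (res hle c) := by
        obtain ⟨d, hd⟩ := (hsg V le_rfl).2 (resM M hle g)
        simp only [resM_self] at hd
        rw [← mul_smul] at hd
        exact IsUnit.of_mul_eq_one_right d
          ((hg' V le_rfl).1 (show (d * res hle c) • resM M le_rfl _ = (1 : Γ(X, V)) • resM M le_rfl _ by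
            rw [resM_self, one_smul]; exact hd))
      have hk' : IsGen (ClSub.idealMod E) V (resM _ hle k) := fun V' h' => by
        have hkV : (show Γ(X, V') from (ClSub.idealModι E).app V' (resM _ h' (resM _ hle k))) =
            res h' (res hle c) := by
          rw [app_resM, app_resM, hk]
          rfl
        have hu' : IsUnit (res h' (res hle c)) := hu.map (res h')
        refine ⟨fun a b hab => ?_, fun y => ?_⟩
        · have h := congrArg ((ClSub.idealModι E).app V') hab
          simp only [Scheme.Modules.Hom.app_smul] at h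
          have h' : a * res h' (res hle c) = b * res h' (res hle c) := by
            have h2 : a * (show Γ(X, V') from (ClSub.idealModι E).app V' (resM _ h' (resM _ hle k))) =
              b * (show Γ(X, V') from (ClSub.idealModι E).app V' (resM _ h' (resM _ hle k))) := h
            rwa [hkV] at h2
          exact hu'.mul_right_cancel h'
        · refine ⟨(show Γ(X, V') from (ClSub.idealModι E).app V' y) * ↑hu'.unit⁻¹, ?_⟩
          refine app_injective_of_mono (ClSub.idealModι E) V' ?_
          rw [Scheme.Modules.Hom.app_smul]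
          show (_ * ↑hu'.unit⁻¹) * (show Γ(X, V') from (ClSub.idealModι E).app V' (resM _ h' (resM _ hle k))) = _
          rw [hkV, mul_assoc, IsUnit.val_inv_mul, mul_one]
      rw [resM_tmul]
      exact isGen_tmul hk' hg'
  choose W t hxW ht hgen using hloc
  have hcov : (⊤ : X.Opens) ≤ ⨆ x, (W x).1 := fun x _ => Opens.mem_iSup.2 ⟨x, hxW x⟩
  obtain ⟨a, ha, -⟩ := TopCat.Sheaf.existsUnique_gluing' (⟨T.presheaf, T.isSheaf⟩ : TopCat.Sheaf Ab X)
    (fun x => (W x).1) ⊤ (fun x => homOfLE le_top) hcov t fun i j => hinj _ (by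
      show Φ.app _ (resM T inf_le_left (t i)) = Φ.app _ (resM T inf_le_right (t j))
      rw [app_resM, app_resM, ht, ht, resM_resM, resM_resM])
  refine ⟨a, fun x hx => ?_⟩
  refine ((le_glocus_iff a (glocus M s ⊓ (W x).1)).2 ?_) ⟨hx, hxW x⟩
  refine isGen_of_eq ?_ (hgen x inf_le_right)
  have h : resM T (le_top : (W x).1 ≤ ⊤) a = t x := ha x
  rw [← h, resM_resM]

end Groth.Agent.FlatMorYMod
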