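import Groth.Agent.BlowUpLib.Disjoint
import Groth.Agent.AmpleLib.GenLocus
import Mathlib

/-!
# Scheme-theoretic images of closed subschemes of opens, radicals
-/

set_option autoImplicit false
set_option backward.isDefEq.respectTransparency.types false

universe u

open AlgebraicGeometry CategoryTheory CategoryTheory.Limits TopologicalSpace

namespace Groth.Agent.FlatMorYMod

variable {Y₀ Q : Scheme.{u}}

/-- A closed subscheme of an open is the trace of its scheme-theoretic image on that open. -/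
theorem opensRange_toImage (m : Y₀ ⟶ Q) [IsImmersion m] [QuasiCompact m] (V : Q.Opens)
    (k : Y₀ ⟶ (V : Scheme.{u})) [IsClosedImmersion k] (hk : k ≫ V.ι = m) :
    m.toImage.opensRange = m.imageι ⁻¹ᵁ V := by
  refine le_antisymm ?_ fun z hz => ?_
  · rintro _ ⟨y, rfl⟩
    show m.imageι (m.toImage y) ∈ V
    rw [← Scheme.Hom.comp_apply, m.toImage_imageι, ← hk, Scheme.Hom.comp_apply]
    exact (k y).2
  · have h1 : m.imageι z ∈ closure (Set.range m) := by
      have h := (Set.mem_range_self z : m.imageι z ∈ Set.range m.imageι)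
      rw [Scheme.IdealSheafData.range_subschemeι, Scheme.Hom.support_ker] at h
      exact h
    obtain ⟨C, hC, hCk⟩ := (V.ι.isOpenEmbedding.isInducing.isClosed_iff).1 k.isClosedEmbedding.isClosed_range
    have hsub : Set.range m ⊆ C := by
      rintro _ ⟨y, rfl⟩
      have : k y ∈ V.ι ⁻¹' C := hCk.ge ⟨y, rfl⟩
      rw [← hk, Scheme.Hom.comp_apply]
      exact this
    obtain ⟨y, hy⟩ := hCk.le (show (⟨m.imageι z, hz⟩ : (V : Scheme.{u})) ∈ V.ι ⁻¹' C from
      hC.closure_subset_iff.2 hsub h1)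
    refine ⟨y, m.imageι.isClosedEmbedding.injective ?_⟩
    rw [← Scheme.Hom.comp_apply, m.toImage_imageι]
    refine ((congrArg (fun q : Y₀ ⟶ Q => q y) hk).symm.trans ?_)
    rw [Scheme.Hom.comp_apply, hy]
    rfl

/-- A function on an affine open whose nonvanishing locus misses the support lies in the radical. -/
theorem exists_pow_mem (I : Q.IdealSheafData) (W : Q.affineOpens) (a : Γ(Q, W.1))
    (h : Disjoint (I.support : Set Q) (Q.basicOpen a : Set Q)) : ∃ n : ℕ, a ^ n ∈ I.ideal W := by
  show a ∈ (I.ideal W).radical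
  rw [Ideal.radical_eq_sInf, Submodule.mem_sInf]
  rintro p ⟨hle, hp⟩
  by_contra hap
  let x := W.2.fromSpec ⟨p, hp⟩
  suffices hxI : x ∈ (I.support : Set Q) ∧ x ∈ (Q.basicOpen a : Set Q) from Set.disjoint_left.1 h hxI.1 hxI.2
  refine ⟨?_, ?_⟩
  · have : (⟨p, hp⟩ : Spec Γ(Q, W.1)) ∈ W.2.fromSpec ⁻¹' Q.zeroLocus (U := W.1) (I.ideal W) := by
      rw [W.2.fromSpec_preimage_zeroLocus]
      exact hle
    exact ((I.coe_support_inter W).ge ⟨this, W.2.range_fromSpec.le ⟨_, rfl⟩⟩).1
  · have : (⟨p, hp⟩ : Spec Γ(Q, W.1)) ∈ W.2.fromSpec ⁻¹ᵁ Q.basicOpen a := by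
      rw [W.2.fromSpec_preimage_basicOpen]
      exact hap
    exact this

open PicLib AmpleLib in
/-- The basic open of a coordinate lies in the locus where the section generates. -/
theorem basicOpen_le_glocus {M : Q.Modules} {W : Q.Opens} {g : Γ(M, W)} (hg : IsGen M W g)
    (s : Γ(M, ⊤)) {a : Γ(Q, W)} (hs : Coherent.resM M le_top s = a • g) : Q.basicOpen a ≤ glocus M s := by
  rw [le_glocus_iff]
  have h1 := (hg.restrict (Q.basicOpen_le a)).smul_unit
    (Q.toRingedSpace.isUnit_res_basicOpen a).unit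
  rw [IsUnit.unit_spec] at h1
  have h2 : Coherent.resM M le_top s = res (Q.basicOpen_le a) a • Coherent.resM M (Q.basicOpen_le a) g := by
    rw [← Coherent.resM_smul, ← hs, Coherent.resM_resM]
  rw [h2]
  exact h1

end Groth.Agent.FlatMorYMod
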