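import Groth.Agent.RelVALib.FTBundle
import Groth.Agent.RelVALib.RelVA
import Groth.Agent.AmpleLib.Relative

/-!
# Projective models of affine morphisms of finite type
-/

set_option autoImplicit false
set_option linter.unusedSectionVars false
set_option backward.isDefEq.respectTransparency.types false
set_option maxHeartbeats 1000000

universe u

open AlgebraicGeometry CategoryTheory CategoryTheory.Limits TopologicalSpace Opposite
open Groth.Agent.Coherent Groth.Agent.PicLib Groth.Agent.AmpleLib Groth.Agent.RelVALib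

namespace Groth.Agent.FlatMorYMod

variable {X Y₀ : Scheme.{u}}

/-- An affine morphism of finite type is closed in the nonvanishing locus of a section of a relatively
ample module on a proper scheme over the base. -/
theorem exists_projective_model (f : Y₀ ⟶ X) [IsAffineHom f] [LocallyOfFiniteType f]
    [CompactSpace X] [QuasiSeparatedSpace X] :
    ∃ (P : Scheme.{u}) (p : P ⟶ X) (O1 : P.Modules) (s : Γ(O1, ⊤))
      (k : Y₀ ⟶ (glocus O1 s : Scheme.{u})), IsProper p ∧ RelAmple.IsRelAmple p O1 ∧ IsClosedImmersion k ∧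
      k ≫ (glocus O1 s).ι ≫ p = f := by
  classical
  let F := (Scheme.Modules.pushforward f).obj (Coh.structureModule Y₀)
  have : Coh.IsQCoh (Coh.structureModule Y₀) := isQCoh_structureModule
  have : Coh.IsQCoh F := isQCoh_push f _
  obtain ⟨T, hT, hcov⟩ := isCompact_iff_finite_and_eq_biUnion_affineOpens.1
    (show IsCompact ((⊤ : X.Opens) : Set X) from isCompact_univ)
  have hcovT : ∀ y : X, ∃ U ∈ T, y ∈ U.1 := fun y => by
    obtain ⟨U, hU⟩ := Opens.mem_iSup.1 (hcov.le (show y ∈ (⊤ : X.Opens) from trivial))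
    obtain ⟨hUT, hy⟩ := Opens.mem_iSup.1 hU
    exact ⟨U, hUT, hy⟩
  have := hT.to_subtype
  have hgens := fun U : T => MorProj.exists_ring_gens' f (U.1.2.preimage f) U.1.2 le_rfl
  choose ν g hg using hgens
  have hQ := fun U : T => exists_good_containing_qcqs (F := F) U.1.2.isCompact
    (fun i : ULift.{u} (Fin (ν U)) => (show Γ(F, U.1.1) from g U i.down))
  choose Q hQ hQmem using hQ
  obtain ⟨Q₀, hQ₀, hQ₀mem⟩ := exists_good_containing_qcqs (F := F) (U := ⊤) isCompact_univ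
    (fun _ : PUnit.{u + 1} => (show Γ(F, ⊤) from oneSec (f ⁻¹ᵁ ⊤)))
  let R : Option T → SubM F := fun o => o.elim Q₀ Q
  let G := SubM.sum R
  have hG : G.Good ⊤ := SubM.good_sum R (fun o => by cases o <;> first | exact hQ₀ | exact hQ _)
  have hGq : Coh.IsQCoh G.toMod := SubM.isQCoh hG
  obtain ⟨e₀, he₀⟩ : (show Γ(F, ⊤) from oneSec (f ⁻¹ᵁ ⊤)) ∈ Set.range (G.toι.app ⊤) :=
    G.mem_range_toι.2 (SubM.le_sum R none _ (hQ₀mem PUnit.unit))
  have hgmem : ∀ (U : T) (i : Fin (ν U)), (show Γ(F, U.1.1) from g U i) ∈ Set.range (G.toι.app U.1.1) :=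
    fun U i => G.mem_range_toι.2 (SubM.le_sum R (some U) _ (hQmem U ⟨i⟩))
  obtain ⟨𝒯, jT, P, p, chart, O1, lam, φ, D⟩ := exists_bundle G.toMod hGq
  let e : ∀ U : X.Opens, Γ(G.toMod, U) := fun U => resM G.toMod le_top e₀
  have he : ∀ U : X.Opens, G.toι.app U (e U) = (show Γ(F, U) from oneSec (f ⁻¹ᵁ U)) := fun U => by
    rw [app_resM, he₀]
    exact resM_oneSec (X := Y₀) (f.preimage_mono le_top)
  obtain ⟨r, hr, τ, hτ⟩ := exists_classifies D (g := f) (L := Coh.structureModule Y₀) (t := G.toι) fun y => by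
    obtain ⟨U, -, hyU⟩ := hcovT (f y)
    refine ⟨U.1, U.2, e U.1, f ⁻¹ᵁ U.1, le_rfl, hyU, ?_⟩
    rw [resM_self, he]
    exact isGen_oneSec _
  let s : Γ(O1, ⊤) := φ.app ⊤ e₀
  have hs : ∀ U : X.Opens, φ.app U (e U) = resM O1 (le_top : p ⁻¹ᵁ U ≤ ⊤) s := fun U => D.phi_res le_top e₀
  have hV : ∀ U : X.affineOpens, opn jT p chart U.2 (e U.1) = glocus O1 s ⊓ p ⁻¹ᵁ U.1 := fun U => by
    refine le_antisymm (le_inf ?_ (D.opn_le _ _)) (D.le_opn U.2 _ inf_le_right ?_)
    · rw [le_glocus_iff]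
      refine isGen_congr ?_ (D.isGen_phi U.2 (e U.1))
      rw [hs, resM_resM]
    · refine isGen_congr ?_ (((le_glocus_iff s _).1 le_rfl).restrict inf_le_left)
      rw [hs, resM_resM, resM_resM]
  have hrU : ∀ U : X.affineOpens, r ⁻¹ᵁ opn jT p chart U.2 (e U.1) = f ⁻¹ᵁ U.1 := fun U => by
    refine le_antisymm ((r.preimage_mono (D.opn_le _ _)).trans (le_of_over hr _)) ?_
    rw [hV, Scheme.Hom.preimage_inf]
    refine le_inf ((ge_of_over hr U.1).trans ?_) (ge_of_over hr _)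
    rw [← glocus_pullSec r D.invertible, le_glocus_iff]
    let a : Γ((Scheme.Modules.pullback r).obj O1, r ⁻¹ᵁ (p ⁻¹ᵁ U.1)) :=
      pullSec r (show Γ(O1, p ⁻¹ᵁ U.1) from φ.app U.1 (e U.1))
    have h1 : IsGen (Coh.structureModule Y₀) (r ⁻¹ᵁ (p ⁻¹ᵁ U.1)) (τ.hom.app _ a) := by
      show IsGen _ _ (τ.hom.app _ (pullSec r _))
      rw [hτ U.1 U.2 (e U.1), he]
      erw [resM_oneSec]
      exact isGen_oneSec _
    have h2 := isGen_of_iso τ.symm h1
    refine isGen_congr ?_ h2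
    have h3 : τ.inv.app (r ⁻¹ᵁ (p ⁻¹ᵁ U.1)) (τ.hom.app _ a) = a :=
      congr(($(τ.hom_inv_id)).app (r ⁻¹ᵁ (p ⁻¹ᵁ U.1)) a)
    rw [Iso.symm_hom, h3]
    show pullSec r (show Γ(O1, p ⁻¹ᵁ U.1) from φ.app U.1 (e U.1)) = _
    rw [hs]
    exact (resM_pullSec r (le_top : p ⁻¹ᵁ U.1 ≤ ⊤) s).symm
  have hrange : Set.range r ⊆ (glocus O1 s : Set P) := by
    rintro _ ⟨y, rfl⟩
    obtain ⟨U, -, hyU⟩ := hcovT (f y)
    exact (hV U).le.trans inf_le_left ((hrU U).ge hyU)
  let k : Y₀ ⟶ (glocus O1 s : Scheme.{u}) :=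
    IsOpenImmersion.lift (glocus O1 s).ι r (by rw [Scheme.Opens.range_ι]; exact hrange)
  have hk : k ≫ (glocus O1 s).ι = r := IsOpenImmersion.lift_fac _ _ _
  have hprop : IsProper p := isProper_bundle hGq (SubM.isFT hG) D.hj D.hP
  refine ⟨P, p, O1, s, k, hprop, ?_, ?_, by rw [← Category.assoc, hk, hr]⟩
  · refine isRelAmple_of_iso ((Scheme.Modules.pullbackId P).app O1) ?_
    exact RelVALib.isRelAmple_pullback_of_isEmbedding D.hgen D.hO1 p (𝟙 P) (Category.id_comp p)
      Topology.IsEmbedding.id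
  · have hsur : ∀ U : T, Function.Surjective (r.app (opn jT p chart U.1.2 (e U.1.1))) := fun U => by
      let O := opn jT p chart U.1.2 (e U.1.1)
      let W := r ⁻¹ᵁ O
      have hW : W ≤ f ⁻¹ᵁ U.1.1 := (hrU U.1).le
      let Φ : Γ(P, O) →+* Γ(Y₀, W) := (r.appLE O W le_rfl).hom
      suffices hΦ : Φ.range = ⊤ by
        intro x
        obtain ⟨d, hd⟩ := hΦ.ge (Subring.mem_top x)
        exact ⟨d, (congrArg (fun q => q d) r.app_eq_appLE).trans hd⟩
      rw [eq_top_iff]
      intro x _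
      obtain ⟨y, rfl⟩ : ∃ y, res hW y = x := ⟨res (hrU U.1).ge x, by rw [PicLib.res_res]; exact ConcreteCategory.congr_hom (Y₀.presheaf.map_id _) _⟩
      have hy : y ∈ (Φ.range.comap (Y₀.presheaf.map (homOfLE hW).op).hom) := by
        refine (Subring.closure_le.2 ?_) ((hg U).ge (Subring.mem_top y))
        rintro _ (⟨b, rfl⟩ | ⟨i, rfl⟩)
        · refine ⟨p.appLE U.1.1 O (D.opn_le _ _) b, ?_⟩
          show (p.appLE U.1.1 O _ ≫ r.appLE O W le_rfl) b = (f.appLE U.1.1 (f ⁻¹ᵁ U.1.1) le_rfl ≫ _) b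
          rw [Scheme.Hom.appLE_comp_appLE, Scheme.Hom.appLE_map]
          simp only [hr]
        · obtain ⟨e', he'⟩ := hgmem U i
          obtain ⟨d, hd⟩ := (D.isGen_phi U.1.2 (e U.1.1) O le_rfl).2
            (resM O1 (D.opn_le U.1.2 (e U.1.1)) (φ.app U.1.1 e'))
          have hd' : d • resM O1 (D.opn_le U.1.2 (e U.1.1)) (φ.app U.1.1 (e U.1.1)) =
              resM O1 (D.opn_le U.1.2 (e U.1.1)) (φ.app U.1.1 e') := by
            simpa only [resM_resM] using hd
          have h := appLE_smul_classified D hτ U.1.2 hd' (W := W) le_rfl hW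
          rw [he, he'] at h
          refine ⟨d, ?_⟩
          show Φ d = res hW (g U i)
          erw [resM_oneSec] at h
          exact (mul_one _).symm.trans h
      exact hy
    refine IsZariskiLocalAtTarget.of_iSup_eq_top (P := @IsClosedImmersion)
      (fun U : T => (glocus O1 s).ι ⁻¹ᵁ opn jT p chart U.1.2 (e U.1.1)) ?_ fun U => ?_
    · refine eq_top_iff.2 fun z _ => ?_
      obtain ⟨U, hU, hzU⟩ := hcovT (p ((glocus O1 s).ι z))
      exact Opens.mem_iSup.2 ⟨⟨U, hU⟩, (hV U).ge ⟨z.2, hzU⟩⟩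
    · let O := opn jT p chart U.1.2 (e U.1.1)
      let V' := (glocus O1 s).ι ⁻¹ᵁ O
      have hV' : IsAffineOpen V' := (D.isAffineOpen_opn U.1.2 _).preimage_of_isOpenImmersion (glocus O1 s).ι
        (by rw [Scheme.Opens.opensRange_ι]; exact (hV U.1).le.trans inf_le_left)
      have hpre : k ⁻¹ᵁ V' = f ⁻¹ᵁ U.1.1 := by
        rw [← Scheme.Hom.comp_preimage, hk]
        exact hrU U.1
      have : IsAffine (V' : Scheme.{u}) := hV'
      have : IsAffine (k ⁻¹ᵁ V' : Scheme.{u}) := hpre ▸ U.1.2.preimage f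
      have hksur : Function.Surjective (k.app V') := fun x => by
        have hpre' : r ⁻¹ᵁ O = k ⁻¹ᵁ V' := by rw [← hk]; rfl
        obtain ⟨d, hd⟩ := hsur U (res hpre'.le x)
        refine ⟨(glocus O1 s).ι.app O d, ?_⟩
        have hc := ConcreteCategory.congr_hom (Scheme.Hom.congr_app hk O) d
        rw [Scheme.Hom.comp_app] at hc
        refine hc.trans ?_
        rw [ConcreteCategory.comp_apply, hd]
        show res _ (res _ x) = x
        rw [PicLib.res_res]; exact ConcreteCategory.congr_hom (Y₀.presheaf.map_id _) _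
      refine IsClosedImmersion.of_surjective_of_isAffine (k ∣_ V') ?_
      rw [morphismRestrict_appTop]
      have hk' : ∀ W, W = V' → Function.Surjective (k.app W) := fun W hW => hW ▸ hksur
      exact (ConcreteCategory.bijective_of_isIso (Y₀.presheaf.map _)).2.comp
        (hk' _ (Scheme.Opens.ι_image_top V'))

end Groth.Agent.FlatMorYMod
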